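import Groth.Agent.ResProp.EF.K622.Glue
import Groth.Agent.ResProp.EF.K895.N6e
import Groth.Agent.ResProp.EF.K58.Loc
import Groth.Agent.ResProp.EF.K478.Sec
import Groth.Agent.StMod.K784.BC3

/-!
# G1: ring level output of the geometry (quotient of `W'` by the groupoid)

`D0 = Γ(W')`, `W' = ⋃ D(s_IJ) ⊆ Spec F.R`, `B0 = Γ(Z)`, `Z = W'/Γ` quasi-affine, `E0 = Γ(W' ×_Z W') = D0 ⊗_(A,s) B`.
-/

set_option autoImplicit false

universe u

open CategoryTheory Limits AlgebraicGeometry TensorProduct K784.BC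
open Groth.Agent.Grpsch.AffGrpd Groth.Agent.ResProp.EF.K412 Groth.Agent.ResProp.EF.K819

namespace Groth.Agent.ResProp.EF.K622

variable {A B : Type u} [CommRing A] [CommRing B] {Lb : Type u} [CommRing Lb] [Algebra Lb A] {G : RGrpd A B}
  {D : K412.Gen Lb G} {k : Type u} [Field k] {x : A →+* k}

/-- **Ring level output of the geometry of G1.** -/
structure GeoRing (F : FrRing D x) : Type (u + 1) where
  B0 : Type u
  D0 : Type u
  E0 : Type u
  [crB : CommRing B0]
  [crD : CommRing D0]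
  [crE : CommRing E0]
  [algBD : Algebra B0 D0]
  [algBE : Algebra B0 E0]
  /-- restriction of functions from `Spec F.R` to `W'` -/
  ι : F.R →+* D0
  /-- `D0` is the ring of functions on `W' = ⋃ D(s_IJ)` -/
  sec : K478.IsSec ι (sIJ F)
  /-- points of `W'` -/
  pts : ∀ {T : Type u} [CommRing T] (d : F.R →+* T), K622.Gen (setIJ F) d → ∃! y : D0 →+* T, y.comp ι = d
  /-- the two maps to `E0 = Γ(W' ×_Z W')` -/
  a : D0 →ₐ[B0] E0
  b : D0 →ₐ[B0] E0
  gE : B →+* E0
  /-- `E0 = D0 ⊗_(A,s) B` through `a`, `gE` -/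
  po : IsPO (ι.comp F.P.a) G.s (a : D0 →+* E0) gE
  /-- `gE` is the arrow from the first point to the second -/
  tr : IsTrans gE (F.P.map ((a : D0 →+* E0).comp ι)) (F.P.map ((b : D0 →+* E0).comp ι))
  inj : Function.Injective (algebraMap B0 D0)
  /-- `B0` is the equalizer of `a`, `b` -/
  eq : ∀ z : D0, a z = b z → ∃ y : B0, algebraMap B0 D0 y = z
  /-- the ideal of the complement of `Z` in `Spec B0` (895's `affIdeal Z`) -/
  I : Ideal B0
  /-- `φ ∈ I` iff every prime of `B0` not containing `φ` is below a point of `W'` -/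
  mem_I : ∀ φ : B0, φ ∈ I ↔ ∀ P : Ideal B0, P.IsPrime → φ ∉ P →
    ∃ Q : Ideal D0, Q.IsPrime ∧ (∃ z, ι (sIJ F z) ∉ Q) ∧ Q.comap (algebraMap B0 D0) = P
  /-- `D0 ⊗_B0 D0 → E0` is bijective after inverting `φ ∈ I` -/
  locBij : ∀ φ ∈ I, K58.LocBij φ (Algebra.TensorProduct.productMap a b).toLinearMap
  /-- `B0 → D0` is faithfully flat after inverting `φ ∈ I` -/
  ff : ∀ φ ∈ I, Module.FaithfullyFlat (Localization.Away φ) (Localization.Away φ ⊗[B0] D0)
  /-- `D0[1/φ]` is of finite type over `A` -/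
  ft : ∀ φ ∈ I, ((algebraMap D0 (Localization.Away (algebraMap B0 D0 φ))).comp (ι.comp F.P.a)).FiniteType
  /-- `D(φ) ⊆ W'` for `φ ∈ I` -/
  le : ∀ φ ∈ I, algebraMap B0 D0 φ ∈ (Ideal.span (Set.range fun z => ι (sIJ F z))).radical
  /-- finitely many `φ ∈ I` cover `W'` -/
  cover : ∃ s : Finset B0, (∀ φ ∈ s, φ ∈ I) ∧ ∀ z, ι (sIJ F z) ∈ (Ideal.span (algebraMap B0 D0 '' s)).radical

attribute [instance] GeoRing.crB GeoRing.crD GeoRing.crE GeoRing.algBD GeoRing.algBE

/-- **Node GEO** (helper622): the output exists. -/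
def StmtGeo : Prop := ∀ {A B Lb : Type u} [CommRing A] [CommRing B] [CommRing Lb] [Algebra Lb A] {G : RGrpd A B}
  {D : K412.Gen Lb G} {k : Type u} [Field k] {x : A →+* k} (F : FrRing D x), IsNoetherianRing Lb →
  Algebra.FiniteType Lb A → G.s.Flat → N4 D F.r1 F.rm → N4' D F.r1 F.rm → Nonempty (GeoRing F)

end Groth.Agent.ResProp.EF.K622
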