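import Groth.Agent.ResProp.EF.K622.AffTest
import Groth.Agent.ResProp.EF.K128.QuotFr
import Mathlib.AlgebraicGeometry.Morphisms.Flat
import Mathlib.RingTheory.Spectrum.Prime.FreeLocus

/-!
# The kernel pair of `θ_W : W ⟶ Spec B`, `W ⊆ Spec D` open, from a statement on points (node N4c of G1)

`θ : B → D`, `s, t : D → D₁` with `s θ = t θ` (in the application `D₁ = D ⊗_A Γ`), `F ⊆ D` finite, `W = ⋃ D(f)`, `f ∈ F`.
-/

set_option autoImplicit false

universe u

open CategoryTheory Limits AlgebraicGeometry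

namespace Groth.Agent.ResProp.EF.K622

section

variable {B D D1 : Type u} [CommRing B] [CommRing D] [CommRing D1]

/-- the point `d : D → T` lies in `⋃ D(f)`, `f ∈ F` -/
def Gen (F : Set D) {T : Type u} [CommRing T] (d : D →+* T) : Prop := Ideal.span (d '' F) = ⊤

/-- the open subset `⋃ D(f)`, `f ∈ F` -/
def opn (F : Set D) : (Spec (.of D)).Opens := ⟨(PrimeSpectrum.zeroLocus F)ᶜ, (PrimeSpectrum.isClosed_zeroLocus F).isOpen_compl⟩

theorem mem_zl (F : Set D) (x : PrimeSpectrum D) : x ∈ (PrimeSpectrum.zeroLocus F)ᶜ ↔ ∃ f ∈ F, f ∉ x.asIdeal := by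
  rw [Set.mem_compl_iff, PrimeSpectrum.mem_zeroLocus, Set.not_subset]
  rfl

theorem mem_opn (F : Set D) (x : Spec (.of D)) : x ∈ opn F ↔ ∃ f ∈ F, f ∉ x.asIdeal := mem_zl F x

theorem range_le_iff (F : Set D) {T : Type u} [CommRing T] (d : D →+* T) :
    (∀ x : Spec (.of T), (Spec.map (CommRingCat.ofHom d)) x ∈ opn F) ↔ Gen F d := by
  constructor
  · intro h
    by_contra hne
    obtain ⟨m, hm, hle⟩ := Ideal.exists_le_maximal _ hne
    obtain ⟨f, hf, hf'⟩ := (mem_opn F _).1 (h ⟨m, hm.isPrime⟩)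
    exact hf' (hle (Ideal.subset_span ⟨f, hf, rfl⟩))
  · intro h x
    rw [mem_opn]
    by_contra hne
    push Not at hne
    have h1 : Ideal.span (d '' F) ≤ x.asIdeal := by
      rw [Ideal.span_le]
      rintro _ ⟨f, hf, rfl⟩
      exact hne f hf
    rw [h, top_le_iff] at h1
    exact x.2.ne_top h1

end

/-- the input of N4c -/
structure KerPair {B D D1 : Type u} [CommRing B] [CommRing D] [CommRing D1] (θ : B →+* D) (s t : D →+* D1)
    (F : Set D) : Prop where
  comm : s.comp θ = t.comp θ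
  flat : s.Flat
  inv : ∀ (T : Type u) [Field T] (r : D1 →+* T), Gen F (r.comp s) → Gen F (r.comp t)
  pts : ∀ (T : Type u) [CommRing T] (d d' : D →+* T), Gen F d → Gen F d' → d.comp θ = d'.comp θ →
    ∃! r : D1 →+* T, r.comp s = d ∧ r.comp t = d'

namespace KerPair

variable {B D D1 : Type u} [CommRing B] [CommRing D] [CommRing D1] {θ : B →+* D} {s t : D →+* D1} {F : Set D}
  (h : KerPair θ s t F)

/-- `R`, the part of `Spec D₁` over `W` -/
noncomputable abbrev Rop (s : D →+* D1) (F : Set D) : (Spec (.of D1)).Opens := (Spec.map (CommRingCat.ofHom s)) ⁻¹ᵁ (opn F)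

/-- `σ : R ⟶ W` -/
noncomputable abbrev sig (s : D →+* D1) (F : Set D) : (Rop s F).toScheme ⟶ (opn F).toScheme :=
  (Spec.map (CommRingCat.ofHom s)) ∣_ (opn F)

include h in
theorem mem_t (x : Spec (.of D1)) (hx : x ∈ Rop s F) : (Spec.map (CommRingCat.ofHom t)) x ∈ opn F := by
  have : x.asIdeal.IsPrime := x.2
  let K := x.asIdeal.ResidueField
  let r : D1 →+* K := algebraMap D1 K
  have hr : ∀ a : D1, r a = 0 ↔ a ∈ x.asIdeal := fun a => Ideal.algebraMap_residueField_eq_zero
  have h1 : Gen F (r.comp s) := by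
    obtain ⟨f, hf, hf'⟩ := (mem_opn F _).1 hx
    have h2 : r (s f) ≠ 0 := fun e => hf' ((hr _).1 e)
    exact Ideal.eq_top_of_isUnit_mem _ (Ideal.subset_span ⟨f, hf, rfl⟩) (isUnit_iff_ne_zero.2 h2)
  have h3 := h.inv K r h1
  rw [mem_opn]
  by_contra hne
  push Not at hne
  have h4 : Ideal.span ((r.comp t) '' F) ≤ ⊥ := by
    rw [Ideal.span_le]
    rintro _ ⟨f, hf, rfl⟩
    exact (hr _).2 (hne f hf)
  rw [h3, top_le_iff] at h4
  exact bot_ne_top h4

/-- `τ : R ⟶ W` -/
noncomputable def tau : (Rop s F).toScheme ⟶ (opn F).toScheme :=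
  IsOpenImmersion.lift (opn F).ι ((Rop s F).ι ≫ Spec.map (CommRingCat.ofHom t)) (by
    rintro _ ⟨x, rfl⟩
    rw [Scheme.Opens.range_ι]
    exact h.mem_t x.1 x.2)

theorem tau_ι : h.tau ≫ (opn F).ι = (Rop s F).ι ≫ Spec.map (CommRingCat.ofHom t) :=
  IsOpenImmersion.lift_fac _ _ _

theorem sig_ι : sig s F ≫ (opn F).ι = (Rop s F).ι ≫ Spec.map (CommRingCat.ofHom s) :=
  morphismRestrict_ι _ _

variable (θ F) in
/-- `θ_W` -/
noncomputable abbrev thW : (opn F).toScheme ⟶ Spec (.of B) := (opn F).ι ≫ Spec.map (CommRingCat.ofHom θ)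

include h in
theorem flat_sig : Flat (sig s F) := by
  have h1 : Flat (Spec.map (CommRingCat.ofHom s)) := by
    rw [Flat.SpecMap_iff]
    exact h.flat
  infer_instance

theorem isPullback : IsPullback (sig s F) h.tau (thW θ F) (thW θ F) := by
  have hc : Spec.map (CommRingCat.ofHom s) ≫ Spec.map (CommRingCat.ofHom θ) =
      Spec.map (CommRingCat.ofHom t) ≫ Spec.map (CommRingCat.ofHom θ) := by
    rw [← Spec.map_comp, ← Spec.map_comp, ← CommRingCat.ofHom_comp, ← CommRingCat.ofHom_comp, h.comm]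
  refine isPullback_of_affine _ _ _ _ ?_ fun T a b e => ?_
  · rw [← Category.assoc, sig_ι, ← Category.assoc, h.tau_ι, Category.assoc, Category.assoc, hc]
  · obtain ⟨d, hd⟩ : ∃ d : D →+* T, a ≫ (opn F).ι = Spec.map (CommRingCat.ofHom d) :=
      ⟨(Spec.preimage (a ≫ (opn F).ι)).hom, (Spec.map_preimage _).symm⟩
    obtain ⟨d', hd'⟩ : ∃ d : D →+* T, b ≫ (opn F).ι = Spec.map (CommRingCat.ofHom d) :=
      ⟨(Spec.preimage (b ≫ (opn F).ι)).hom, (Spec.map_preimage _).symm⟩
    have g1 : Gen F d := by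
      rw [← range_le_iff]
      intro x
      rw [← hd]
      exact (a x).2
    have g2 : Gen F d' := by
      rw [← range_le_iff]
      intro x
      rw [← hd']
      exact (b x).2
    have e1 : d.comp θ = d'.comp θ := by
      have := e
      rw [← Category.assoc, ← Category.assoc, hd, hd', ← Spec.map_comp, ← Spec.map_comp] at this
      have := Spec.map_injective this
      exact congrArg CommRingCat.Hom.hom this
    obtain ⟨r, ⟨r1, r2⟩, r3⟩ := h.pts T d d' g1 g2 e1
    have hs : Spec.map (CommRingCat.ofHom r) ≫ Spec.map (CommRingCat.ofHom s) = a ≫ (opn F).ι := by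
      rw [hd, ← Spec.map_comp, ← CommRingCat.ofHom_comp, r1]
    have ht : Spec.map (CommRingCat.ofHom r) ≫ Spec.map (CommRingCat.ofHom t) = b ≫ (opn F).ι := by
      rw [hd', ← Spec.map_comp, ← CommRingCat.ofHom_comp, r2]
    have hR : Set.range (Spec.map (CommRingCat.ofHom r)) ⊆ Set.range (Rop s F).ι := by
      rintro _ ⟨x, rfl⟩
      rw [Scheme.Opens.range_ι]
      change (Spec.map (CommRingCat.ofHom r) ≫ Spec.map (CommRingCat.ofHom s)) x ∈ opn F
      rw [hs]
      exact (a x).2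
    refine ⟨IsOpenImmersion.lift (Rop s F).ι (Spec.map (CommRingCat.ofHom r)) hR, ⟨?_, ?_⟩, ?_⟩
    · rw [← cancel_mono (opn F).ι, Category.assoc, sig_ι, ← Category.assoc, IsOpenImmersion.lift_fac, hs]
    · rw [← cancel_mono (opn F).ι, Category.assoc, h.tau_ι, ← Category.assoc, IsOpenImmersion.lift_fac, ht]
    · rintro r' ⟨q1, q2⟩
      rw [← cancel_mono (Rop s F).ι, IsOpenImmersion.lift_fac]
      obtain ⟨r0, hr0⟩ : ∃ r0 : D1 →+* T, r' ≫ (Rop s F).ι = Spec.map (CommRingCat.ofHom r0) :=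
        ⟨(Spec.preimage (r' ≫ (Rop s F).ι)).hom, (Spec.map_preimage _).symm⟩
      rw [hr0]
      have k1 : r0.comp s = d := by
        have : Spec.map (CommRingCat.ofHom (r0.comp s)) = Spec.map (CommRingCat.ofHom d) := by
          rw [CommRingCat.ofHom_comp, Spec.map_comp, ← hr0, Category.assoc, ← sig_ι, ← Category.assoc, q1, hd]
        exact congrArg CommRingCat.Hom.hom (Spec.map_injective this)
      have k2 : r0.comp t = d' := by
        have : Spec.map (CommRingCat.ofHom (r0.comp t)) = Spec.map (CommRingCat.ofHom d') := by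
          rw [CommRingCat.ofHom_comp, Spec.map_comp, ← hr0, Category.assoc, ← h.tau_ι, ← Category.assoc, q2, hd']
        exact congrArg CommRingCat.Hom.hom (Spec.map_injective this)
      rw [r3 r0 ⟨k1, k2⟩]

end KerPair

end Groth.Agent.ResProp.EF.K622
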