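import Groth.Agent.ResProp.EF.K622.Quot
import Groth.Agent.ResProp.EF.K478.Sec
import Mathlib.AlgebraicGeometry.Morphisms.QuasiSeparated

/-!
# Functions on the open `W = ⋃ D(s i) ⊆ Spec R`
-/

set_option autoImplicit false

universe u v

open CategoryTheory Limits AlgebraicGeometry TopologicalSpace Opposite

namespace Groth.Agent.ResProp.EF.K622

section

variable {W : Scheme.{u}}

/-- restriction of a function -/
noncomputable def rs (U : W.Opens) : Γ(W, ⊤) →+* Γ(W, U) := (W.presheaf.map (homOfLE (le_top : U ≤ ⊤)).op).hom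

theorem isUnit_rs (f : Γ(W, ⊤)) {U : W.Opens} (h : U ≤ W.basicOpen f) : IsUnit (rs U f) := by
  have h1 : IsUnit (W.presheaf.map (homOfLE (W.basicOpen_le f)).op f) := RingedSpace.isUnit_res_basicOpen _ f
  have h2 := h1.map (W.presheaf.map (homOfLE h).op).hom
  have h3 : (W.presheaf.map (homOfLE h).op).hom (W.presheaf.map (homOfLE (W.basicOpen_le f)).op f) = rs U f := by
    change (W.presheaf.map (homOfLE (W.basicOpen_le f)).op ≫ W.presheaf.map (homOfLE h).op) f = _
    rw [← W.presheaf.map_comp]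
    rfl
  rw [← h3]
  exact h2

theorem rs_rs (f : Γ(W, ⊤)) {U V : W.Opens} (h : V ≤ U) : (W.presheaf.map (homOfLE h).op).hom (rs U f) = rs V f := by
  change (W.presheaf.map (homOfLE (le_top : U ≤ ⊤)).op ≫ W.presheaf.map (homOfLE h).op) f = _
  rw [← W.presheaf.map_comp]
  rfl

theorem eq_of_rs {J : Type v} (t : J → Γ(W, ⊤)) (hc : ∀ w : W, ∃ i, w ∈ W.basicOpen (t i)) (x y : Γ(W, ⊤))
    (h : ∀ i, rs (W.basicOpen (t i)) x = rs (W.basicOpen (t i)) y) : x = y :=
  TopCat.Sheaf.eq_of_locally_eq' W.sheaf (fun i => W.basicOpen (t i)) ⊤ (fun i => homOfLE le_top)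
    (fun w _ => by
      obtain ⟨i, hi⟩ := hc w
      exact Opens.mem_iSup.2 ⟨i, hi⟩) x y h

theorem sheafy_of_cover {J : Type v} (t : J → Γ(W, ⊤)) (hc : ∀ w : W, ∃ i, w ∈ W.basicOpen (t i)) :
    K478.Sheafy t where
  inj n x h := by
    refine eq_of_rs t hc x 0 fun i => ?_
    have h1 := congrArg (rs (W.basicOpen (t i))) (h i)
    rw [map_mul, map_pow, map_zero] at h1
    rw [map_zero]
    exact ((isUnit_rs (t i) le_rfl).pow n).mul_right_eq_zero.1 h1
  glue n m h := by
    choose u hu using fun i => isUnit_rs (t i) (le_refl (W.basicOpen (t i)))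
    let sf : ∀ i, Γ(W, W.basicOpen (t i)) := fun i =>
      (((u i)⁻¹ ^ n : (Γ(W, W.basicOpen (t i)))ˣ) : Γ(W, W.basicOpen (t i))) * rs (W.basicOpen (t i)) (m i)
    have hsf : ∀ i, rs (W.basicOpen (t i)) (t i) ^ n * sf i = rs _ (m i) := by
      intro i
      simp only [sf]
      rw [← hu i, ← mul_assoc, ← Units.val_pow_eq_pow_val, ← Units.val_mul]
      simp
    have hcomp : ∀ i j, (W.presheaf.map (homOfLE (inf_le_left : W.basicOpen (t i) ⊓ W.basicOpen (t j) ≤ _)).op).hom (sf i) =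
        (W.presheaf.map (homOfLE (inf_le_right : W.basicOpen (t i) ⊓ W.basicOpen (t j) ≤ _)).op).hom (sf j) := by
      intro i j
      have ui : IsUnit (rs (W.basicOpen (t i) ⊓ W.basicOpen (t j)) (t i)) := isUnit_rs (t i) inf_le_left
      have uj : IsUnit (rs (W.basicOpen (t i) ⊓ W.basicOpen (t j)) (t j)) := isUnit_rs (t j) inf_le_right
      have e1 := congrArg (W.presheaf.map (homOfLE (inf_le_left : W.basicOpen (t i) ⊓ W.basicOpen (t j) ≤ _)).op).hom (hsf i)
      have e2 := congrArg (W.presheaf.map (homOfLE (inf_le_right : W.basicOpen (t i) ⊓ W.basicOpen (t j) ≤ _)).op).hom (hsf j)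
      rw [map_mul, map_pow, rs_rs, rs_rs] at e1 e2
      have e3 := congrArg (rs (W.basicOpen (t i) ⊓ W.basicOpen (t j))) (h i j)
      rw [map_mul, map_mul, map_pow, map_pow, ← e1, ← e2] at e3
      refine (ui.pow n).mul_left_cancel ((uj.pow n).mul_left_cancel ?_)
      rw [e3]
      ring
    obtain ⟨e, he⟩ : ∃ e : Γ(W, ⊤), ∀ i, rs (W.basicOpen (t i)) e = sf i := by
      obtain ⟨e, he, -⟩ := TopCat.Sheaf.existsUnique_gluing' W.sheaf (fun i => W.basicOpen (t i)) ⊤
        (fun i => homOfLE le_top) (fun w _ => by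
          obtain ⟨i, hi⟩ := hc w
          exact Opens.mem_iSup.2 ⟨i, hi⟩) sf hcomp
      exact ⟨e, he⟩
    refine ⟨e, fun i => eq_of_rs t hc _ _ fun j => ?_⟩
    rw [map_mul, map_pow, he j]
    refine ((isUnit_rs (t j) le_rfl).pow n).mul_left_cancel ?_
    have e3 := congrArg (rs (W.basicOpen (t j))) (h i j)
    rw [map_mul, map_mul, map_pow, map_pow, ← hsf j] at e3
    rw [e3]
    ring

end

variable {R : Type u} [CommRing R] (S : Set R)

/-- the basic open set of `Spec R` -/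
noncomputable def bo (r : R) : (Spec (.of R)).Opens := (Spec (.of R)).basicOpen ((Scheme.ΓSpecIso (.of R)).inv.hom r)

theorem mem_bo (r : R) (x : Spec (.of R)) : x ∈ bo r ↔ r ∉ x.asIdeal := by
  have h : bo r = PrimeSpectrum.basicOpen r := basicOpen_eq_of_affine (R := .of R) r
  have h2 : x ∈ bo r ↔ x ∈ (PrimeSpectrum.basicOpen r : Opens (PrimeSpectrum R)) := by
    rw [h]
    rfl
  exact h2

/-- restriction of functions to `W` -/
noncomputable def res : R →+* Γ((opn S).toScheme, ⊤) :=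
  ((Scheme.ΓSpecIso (.of R)).inv ≫ (opn S).ι.appTop).hom

theorem res_apply (r : R) : res S r = (opn S).ι.appTop.hom ((Scheme.ΓSpecIso (.of R)).inv.hom r) := rfl

theorem basicOpen_res (r : R) : (opn S).toScheme.basicOpen (res S r) = (opn S).ι ⁻¹ᵁ (bo r) := by
  rw [bo, Scheme.preimage_basicOpen_top]
  rfl

theorem bo_le (r : R) (hr : r ∈ S) : bo r ≤ opn S := fun x hx =>
  (mem_opn S x).2 ⟨r, hr, (mem_bo r x).1 hx⟩

theorem image_bo (r : R) (hr : r ∈ S) : (opn S).ι ''ᵁ ((opn S).ι ⁻¹ᵁ (bo r)) = bo r := by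
  rw [Scheme.Hom.image_preimage_eq_opensRange_inf, Scheme.Opens.opensRange_ι]
  exact inf_eq_right.2 (bo_le S r hr)

theorem bo_le_image (r : R) (hr : r ∈ S) : bo r ≤ (opn S).ι ''ᵁ ⊤ := by
  rw [Scheme.Hom.image_top_eq_opensRange, Scheme.Opens.opensRange_ι]
  exact bo_le S r hr

theorem map_map_le {X : Scheme.{u}} {U V V' : X.Opens} (h1 : V ≤ U) (h2 : V' ≤ V) (z : Γ(X, U)) :
    (X.presheaf.map (homOfLE h2).op).hom ((X.presheaf.map (homOfLE h1).op).hom z) =
      (X.presheaf.map (homOfLE (h2.trans h1)).op).hom z := by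
  change (X.presheaf.map (homOfLE h1).op ≫ X.presheaf.map (homOfLE h2).op).hom z = _
  rw [← X.presheaf.map_comp]
  rfl

/-- restriction from `W` to `D(r)` -/
noncomputable def qq (r : R) (hr : r ∈ S) : Γ((opn S).toScheme, ⊤) →+* Γ(Spec (.of R), bo r) :=
  ((Spec (.of R)).presheaf.map (homOfLE (bo_le_image S r hr)).op).hom

theorem qq_res (r : R) (hr : r ∈ S) (a : R) :
    qq S r hr (res S a) = ((Spec (.of R)).presheaf.map (homOfLE (le_top : bo r ≤ ⊤)).op).hom
      ((Scheme.ΓSpecIso (.of R)).inv.hom a) := by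
  rw [res_apply]
  change ((Spec (.of R)).presheaf.map (homOfLE (bo_le_image S r hr)).op).hom
    (((opn S).ι.app ⊤).hom ((Scheme.ΓSpecIso (.of R)).inv.hom a)) = _
  rw [Scheme.Opens.ι_app]
  exact map_map_le (X := Spec (.of R)) (U := ⊤) le_top (bo_le_image S r hr) _

theorem rs_eq_qq (r : R) (hr : r ∈ S) (z : Γ((opn S).toScheme, ⊤)) :
    rs ((opn S).toScheme.basicOpen (res S r)) z =
      ((Spec (.of R)).presheaf.map (homOfLE (show (opn S).ι ''ᵁ ((opn S).toScheme.basicOpen (res S r)) ≤ bo r by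
        rw [basicOpen_res, image_bo S r hr])).op).hom (qq S r hr z) := by
  exact (map_map_le (X := Spec (.of R)) (U := (opn S).ι ''ᵁ ⊤) (bo_le_image S r hr)
    (show (opn S).ι ''ᵁ ((opn S).toScheme.basicOpen (res S r)) ≤ bo r by rw [basicOpen_res, image_bo S r hr]) z).symm

theorem isSec_res {J : Type v} [Finite J] (s : J → R) : K478.IsSec (res (Set.range s)) s where
  ker r hr i := by
    have h1 := qq_res (Set.range s) (s i) (Set.mem_range_self i) r
    rw [hr, map_zero] at h1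
    obtain ⟨n, hn⟩ := exists_pow_mul_eq_zero_of_res_basicOpen_eq_zero_of_isCompact (Spec (.of R)) (U := ⊤)
      isCompact_univ ((Scheme.ΓSpecIso (.of R)).inv.hom r) ((Scheme.ΓSpecIso (.of R)).inv.hom (s i)) h1.symm
    refine ⟨n, ?_⟩
    have h2 := congrArg (Scheme.ΓSpecIso (.of R)).hom.hom hn
    rw [map_mul, map_pow, map_zero] at h2
    have h3 : ∀ a : R, (Scheme.ΓSpecIso (.of R)).hom.hom ((Scheme.ΓSpecIso (.of R)).inv.hom a) = a := fun a =>
      congrArg (fun f => f.hom a) (Scheme.ΓSpecIso (.of R)).inv_hom_id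
    rw [h3, h3] at h2
    exact h2
  num d i := by
    have hW : CompactSpace (opn (Set.range s)).toScheme :=
      isCompact_iff_compactSpace.1 (isCompact_opn _ (Set.finite_range s))
    obtain ⟨n, y, hy⟩ := exists_eq_pow_mul_of_isCompact_of_isQuasiSeparated (Spec (.of R)) ⊤ isCompact_univ
      isQuasiSeparated_univ ((Scheme.ΓSpecIso (.of R)).inv.hom (s i)) (qq (Set.range s) (s i) (Set.mem_range_self i) d)
    obtain ⟨r, rfl⟩ : ∃ r : R, y = (Scheme.ΓSpecIso (.of R)).inv.hom r :=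
      ⟨(Scheme.ΓSpecIso (.of R)).hom.hom y, (congrArg (fun f => f.hom y) (Scheme.ΓSpecIso (.of R)).hom_inv_id).symm⟩
    have hz : rs ((opn (Set.range s)).toScheme.basicOpen (res _ (s i))) (res _ (s i) ^ n * d - res _ r) = 0 := by
      rw [rs_eq_qq (Set.range s) (s i) (Set.mem_range_self i), map_sub, map_mul, map_pow, qq_res, qq_res]
      have : ((Spec (.of R)).presheaf.map (homOfLE (le_top : bo (s i) ≤ ⊤)).op).hom
          ((Scheme.ΓSpecIso (.of R)).inv.hom r) = ((Spec (.of R)).presheaf.map (homOfLE (le_top : bo (s i) ≤ ⊤)).op).hom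
          ((Scheme.ΓSpecIso (.of R)).inv.hom (s i)) ^ n * (qq (Set.range s) (s i) (Set.mem_range_self i) d) := hy
      rw [this, sub_self, map_zero]
      rfl
    obtain ⟨m, hm⟩ := exists_pow_mul_eq_zero_of_res_basicOpen_eq_zero_of_isCompact (opn (Set.range s)).toScheme (U := ⊤)
      isCompact_univ _ (res _ (s i)) hz
    refine ⟨m + n, s i ^ m * r, ?_⟩
    rw [mul_sub, sub_eq_zero, ← mul_assoc, ← pow_add] at hm
    rw [hm, map_mul, map_pow]
  sh := sheafy_of_cover _ fun w => by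
    obtain ⟨_, ⟨i, rfl⟩, hw⟩ := (mem_opn (Set.range s) w.1).1 w.2
    refine ⟨i, ?_⟩
    rw [basicOpen_res]
    exact (mem_bo (s i) _).2 hw

end Groth.Agent.ResProp.EF.K622
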