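import Groth.Agent.ResProp.EF.K622.GeoDef
import Groth.Agent.ResProp.EF.K622.Sec
import Groth.Agent.ResProp.EF.K895.Gal
import Groth.Agent.ResProp.EF.K895.GeoFields
import Groth.Agent.ResProp.EF.K895.Ft
import Groth.Agent.ResProp.EF.K786.N4

/-!
# Node GEO of G1: `GeoRing F` exists
-/

set_option autoImplicit false

universe u

open CategoryTheory Limits AlgebraicGeometry TensorProduct K784.BC
open Groth.Agent.Grpsch.AffGrpd Groth.Agent.ResProp.EF.K412 Groth.Agent.ResProp.EF.K819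

namespace Groth.Agent.ResProp.EF.K622

section gen

variable {R R' : Type u} [CommRing R] [CommRing R']

/-- functions on an open subscheme of an affine scheme -/
noncomputable def gm {E : Scheme.{u}} (q : E ⟶ Spec (.of R)) : R →+* Γ(E, ⊤) :=
  ((Scheme.ΓSpecIso (.of R)).inv ≫ q.appTop).hom

theorem gm_comp {E E' : Scheme.{u}} (q : E ⟶ Spec (.of R)) (f : E' ⟶ E) : gm (f ≫ q) = f.appTop.hom.comp (gm q) := by
  unfold gm
  rw [Scheme.Hom.comp_appTop]
  rfl

theorem gm_spec {E : Scheme.{u}} (q : E ⟶ Spec (.of R')) (φ : R →+* R') :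
    gm (q ≫ Spec.map (CommRingCat.ofHom φ)) = (gm q).comp φ := by
  unfold gm
  rw [Scheme.Hom.comp_appTop, ← Category.assoc, ← Scheme.ΓSpecIso_inv_naturality]
  rfl

end gen

variable {A B : Type u} [CommRing A] [CommRing B] {Lb : Type u} [CommRing Lb] [Algebra Lb A] {G : RGrpd A B}
  {D : K412.Gen Lb G} {k : Type u} [Field k] {x : A →+* k}

theorem isPO_of_isPullback (F : FrRing D x) (hs : G.s.Flat) {R1 : Type u} [CommRing R1] (ar : Arr F R1) :
    IsPO ((res (setIJ F)).comp F.P.a) G.s (KerPair.sig ar.s (setIJ F)).appTop.hom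
      ((gm (KerPair.Rop ar.s (setIJ F)).ι).comp ar.g) := by
  have hfl : Flat (Spec.map (CommRingCat.ofHom G.s)) := by
    rw [Flat.SpecMap_iff]
    exact hs
  have hcs : CompactSpace (opn (setIJ F)).toScheme :=
    isCompact_iff_compactSpace.1 (isCompact_opn _ (finite_setIJ F))
  have hqa : (opn (setIJ F)).toScheme.IsQuasiAffine := .of_isImmersion (opn (setIJ F)).ι
  have h1 := K895.N6s.isPushout_appTop (isPullback_s F ar)
  refine IsPushout.of_iso h1 (Scheme.ΓSpecIso (.of A)) (Iso.refl _) (Scheme.ΓSpecIso (.of B)) (Iso.refl _) ?_ ?_ ?_ ?_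
  · have e : (res (setIJ F)).comp F.P.a = gm ((opn (setIJ F)).ι ≫ Spec.map (CommRingCat.ofHom F.P.a)) :=
      (gm_spec _ _).symm
    rw [e, Iso.refl_hom, Category.comp_id]
    exact (Iso.hom_inv_id_assoc _ _).symm
  · exact Scheme.ΓSpecIso_naturality _
  · rw [Iso.refl_hom, Iso.refl_hom, Category.comp_id, Category.id_comp]
    rfl
  · rw [← gm_spec, Iso.refl_hom, Category.comp_id]
    exact (Iso.hom_inv_id_assoc _ _).symm

/-- **`GeoRing F` from the quotient `g : W' ⟶ Z`** -/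
noncomputable def geoRing (F : FrRing D x) (hA : Algebra.FiniteType Lb A) [IsNoetherianRing Lb] (hs : G.s.Flat)
    {R1 : Type u} [CommRing R1] (ar : Arr F R1) (h : KerPair (theta F.P) ar.s ar.t (setIJ F)) {Z : Scheme.{u}}
    (g : (opn (setIJ F)).toScheme ⟶ Z) (hp : IsPullback (KerPair.sig ar.s (setIJ F)) h.tau g g)
    (hZ : Z.IsQuasiAffine) (g1 : Surjective g) (g2 : Flat g) (g3 : QuasiCompact g) (g4 : IsAffineHom g) :
    GeoRing F := by
  letI : Algebra Γ(Z, ⊤) Γ((opn (setIJ F)).toScheme, ⊤) := g.appTop.hom.toAlgebra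
  letI : Algebra Γ(Z, ⊤) Γ((KerPair.Rop ar.s (setIJ F)).toScheme, ⊤) := (KerPair.sig ar.s (setIJ F) ≫ g).appTop.hom.toAlgebra
  have hcov : ∀ y : Spec (.of F.R), y ∈ opn (setIJ F) ↔ ∃ i, sIJ F i ∉ y.asIdeal := fun y => by
    rw [mem_opn]
    constructor
    · rintro ⟨_, ⟨i, rfl⟩, h⟩
      exact ⟨i, h⟩
    · rintro ⟨i, h⟩
      exact ⟨_, ⟨i, rfl⟩, h⟩
  have hq : (opn (setIJ F)).toScheme.IsQuasiAffine := .of_isAffineHom g
  have hNA : IsNoetherianRing A := Algebra.FiniteType.isNoetherianRing Lb A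
  have hsec : K478.IsSec (res (setIJ F)) (sIJ F) := isSec_res (sIJ F)
  exact
  { B0 := Γ(Z, ⊤)
    D0 := Γ((opn (setIJ F)).toScheme, ⊤)
    E0 := Γ((KerPair.Rop ar.s (setIJ F)).toScheme, ⊤)
    ι := res (setIJ F)
    sec := hsec
    pts := fun d hd => hsec.existsUnique d (K478.Sheafy.of_span ((gen_iff F d).1 hd))
    a := { (KerPair.sig ar.s (setIJ F)).appTop.hom with
      commutes' := fun r => by
        change _ = (KerPair.sig ar.s (setIJ F) ≫ g).appTop.hom r
        rw [Scheme.Hom.comp_appTop]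
        rfl }
    b := { h.tau.appTop.hom with
      commutes' := fun r => by
        change _ = (KerPair.sig ar.s (setIJ F) ≫ g).appTop.hom r
        rw [hp.w, Scheme.Hom.comp_appTop]
        rfl }
    gE := (gm (KerPair.Rop ar.s (setIJ F)).ι).comp ar.g
    po := isPO_of_isPullback F hs ar
    tr := by
      have h1 := ar.isTrans (gm (KerPair.Rop ar.s (setIJ F)).ι)
      have e1 : (gm (KerPair.Rop ar.s (setIJ F)).ι).comp ar.s =
          (KerPair.sig ar.s (setIJ F)).appTop.hom.comp (res (setIJ F)) := by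
        rw [← gm_spec, ← KerPair.sig_ι, gm_comp]
        rfl
      have e2 : (gm (KerPair.Rop ar.s (setIJ F)).ι).comp ar.t = h.tau.appTop.hom.comp (res (setIJ F)) := by
        rw [← gm_spec, ← h.tau_ι, gm_comp]
        rfl
      rw [e1, e2] at h1
      exact h1
    inj := K895.N6s.injective_appTop_of_epi g
    eq := K895.N6s.exists_of_effectiveEpi g _ _ hp
    I := K895.N6s.affIdeal Z
    mem_I := K895.N6s.mem_affIdeal_iff_prime (opn (setIJ F)) (sIJ F) hcov (res (setIJ F)) rfl g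
    locBij := fun φ hφ => K895.N6s.locBij58 g _ _ hp φ ((K895.N6s.mem_affIdeal Z φ).1 hφ) rfl rfl _ _ rfl rfl
    ff := fun φ hφ => K895.N6s.ff58 g φ ((K895.N6s.mem_affIdeal Z φ).1 hφ) rfl
    ft := fun φ hφ => by
      have h1 := lfp_W F
      exact K895.N6s.finiteType_away ((opn (setIJ F)).ι ≫ Spec.map (CommRingCat.ofHom F.P.a)) _
        ((K895.N6s.mem_affIdeal _ _).1 (K895.N6s.appTop_mem_affIdeal g hφ)) _ (gm_spec _ F.P.a).symm
    le := K895.N6s.appTop_mem_radical_span (opn (setIJ F)) (sIJ F) hcov (res (setIJ F)) rfl g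
    cover := K895.N6s.exists_cover_radical (opn (setIJ F)) (sIJ F) hcov (res (setIJ F)) rfl g }

/-- **Node GEO** -/
theorem stmtGeo : StmtGeo.{u} := by
  intro A B Lb _ _ _ _ G D k _ x F hL hA hs hN hN'
  obtain ⟨R1, _, ⟨ar⟩⟩ := exists_arr F
  obtain ⟨Z, g, m, hp, -, -, -, -, hZ, g1, g2, -, g3, g4⟩ := exists_quot_frRing hA F hN hN' hs ar
  exact ⟨geoRing F hA hs ar _ g hp hZ g1 g2 g3 g4⟩

/-- **GEO, unconditional** (with 786's N4, N4') -/
theorem exists_geoRing (F : FrRing D x) [hL : IsNoetherianRing Lb] (hA : Algebra.FiniteType Lb A) (hs : G.s.Flat) :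
    Nonempty (GeoRing F) :=
  stmtGeo F hL hA hs (K786.n4 D F.r1 F.rm) (K786.n4' D F.r1 F.rm)

end Groth.Agent.ResProp.EF.K622
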