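import Mathlib.AlgebraicGeometry.Pullbacks
import Mathlib.AlgebraicGeometry.Cover.Open

/-!
# Pullback squares of schemes are tested on affine schemes
-/

set_option autoImplicit false

universe u

open CategoryTheory Limits AlgebraicGeometry

namespace Groth.Agent.ResProp.EF.K622

/-- uniqueness on affine test schemes implies uniqueness on all test schemes -/
theorem hom_ext_of_affine {R W V : Scheme.{u}} (σ : R ⟶ W) (τ : R ⟶ V)
    (h : ∀ (T : Scheme.{u}) [IsAffine T] (r r' : T ⟶ R), r ≫ σ = r' ≫ σ → r ≫ τ = r' ≫ τ → r = r')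
    {T : Scheme.{u}} (r r' : T ⟶ R) (h1 : r ≫ σ = r' ≫ σ) (h2 : r ≫ τ = r' ≫ τ) : r = r' := by
  refine Scheme.Cover.hom_ext T.affineCover _ _ fun i => ?_
  have key : ∀ {X : Scheme.{u}} [IsAffine X] (f : X ⟶ T), f ≫ r = f ≫ r' := by
    intro X _ f
    refine h _ _ _ ?_ ?_
    · rw [Category.assoc, Category.assoc, h1]
    · rw [Category.assoc, Category.assoc, h2]
  exact key (T.affineCover.f i)

/-- a commutative square of schemes which is a pullback for affine test schemes is a pullback -/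
theorem isPullback_of_affine' {R W V Y : Scheme.{u}} (σ : R ⟶ W) (τ : R ⟶ V) (f : W ⟶ Y) (g : V ⟶ Y)
    (w : σ ≫ f = τ ≫ g)
    (h : ∀ (T : Scheme.{u}) [IsAffine T] (a : T ⟶ W) (b : T ⟶ V), a ≫ f = b ≫ g →
      ∃! r : T ⟶ R, r ≫ σ = a ∧ r ≫ τ = b) : IsPullback σ τ f g := by
  have hu : ∀ (T : Scheme.{u}) [IsAffine T] (r r' : T ⟶ R), r ≫ σ = r' ≫ σ → r ≫ τ = r' ≫ τ → r = r' := by
    intro T _ r r' h1 h2
    have hw : (r ≫ σ) ≫ f = (r ≫ τ) ≫ g := by rw [Category.assoc, w, Category.assoc]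
    exact (h T _ _ hw).unique ⟨rfl, rfl⟩ ⟨h1.symm, h2.symm⟩
  have ex : ∀ {X : Scheme.{u}} [IsAffine X] (c : X ⟶ pullback f g),
      ∃ r : X ⟶ R, r ≫ σ = c ≫ pullback.fst f g ∧ r ≫ τ = c ≫ pullback.snd f g := by
    intro X _ c
    exact (h _ (c ≫ pullback.fst f g) (c ≫ pullback.snd f g)
      (by rw [Category.assoc, Category.assoc, pullback.condition])).exists
  have gl : ∀ {X Y' : Scheme.{u}} (c : X ⟶ pullback f g) (c' : Y' ⟶ pullback f g) (ρ : X ⟶ R) (ρ' : Y' ⟶ R),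
      ρ ≫ σ = c ≫ pullback.fst f g → ρ ≫ τ = c ≫ pullback.snd f g → ρ' ≫ σ = c' ≫ pullback.fst f g →
      ρ' ≫ τ = c' ≫ pullback.snd f g → pullback.fst c c' ≫ ρ = pullback.snd c c' ≫ ρ' := by
    intro X Y' c c' ρ ρ' e1 e2 e3 e4
    refine hom_ext_of_affine σ τ hu _ _ ?_ ?_
    · rw [Category.assoc, Category.assoc, e1, e3, pullback.condition_assoc]
    · rw [Category.assoc, Category.assoc, e2, e4, pullback.condition_assoc]
  have as : ∀ {X : Scheme.{u}} (c : X ⟶ pullback f g) (r : pullback f g ⟶ R) (ρ : X ⟶ R) (_ : c ≫ r = ρ),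
      c ≫ (r ≫ σ) = ρ ≫ σ ∧ c ≫ (r ≫ τ) = ρ ≫ τ := by
    intro X c r ρ e
    rw [← Category.assoc, ← Category.assoc, e]
    exact ⟨rfl, rfl⟩
  let 𝒰 := (pullback f g).affineCover
  choose ρ h12 using fun i => ex (𝒰.f i)
  have hc : ∀ i j, pullback.fst (𝒰.f i) (𝒰.f j) ≫ ρ i = pullback.snd (𝒰.f i) (𝒰.f j) ≫ ρ j := fun i j =>
    gl _ _ _ _ (h12 i).1 (h12 i).2 (h12 j).1 (h12 j).2
  let r : pullback f g ⟶ R := 𝒰.glueMorphisms ρ hc
  have hr : ∀ i, 𝒰.f i ≫ r = ρ i := fun i => Scheme.Cover.ι_glueMorphisms 𝒰 ρ hc i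
  let c : R ⟶ pullback f g := pullback.lift σ τ w
  have hc1 : c ≫ pullback.fst f g = σ := pullback.lift_fst _ _ _
  have hc2 : c ≫ pullback.snd f g = τ := pullback.lift_snd _ _ _
  have hr1 : r ≫ σ = pullback.fst f g :=
    Scheme.Cover.hom_ext 𝒰 _ _ fun i => (as _ _ _ (hr i)).1.trans (h12 i).1
  have hr2 : r ≫ τ = pullback.snd f g :=
    Scheme.Cover.hom_ext 𝒰 _ _ fun i => (as _ _ _ (hr i)).2.trans (h12 i).2
  have hcr : c ≫ r = 𝟙 R := by
    refine hom_ext_of_affine σ τ hu _ _ ?_ ?_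
    · rw [Category.assoc, hr1, hc1, Category.id_comp]
    · rw [Category.assoc, hr2, hc2, Category.id_comp]
  have hrc : r ≫ c = 𝟙 _ := by
    refine pullback.hom_ext ?_ ?_
    · rw [Category.assoc, hc1, hr1, Category.id_comp]
    · rw [Category.assoc, hc2, hr2, Category.id_comp]
  exact IsPullback.of_iso_pullback ⟨w⟩ ⟨c, r, hcr, hrc⟩ hc1 hc2

/-- a commutative square of schemes which is a pullback for test schemes `Spec T` is a pullback -/
theorem isPullback_of_affine {R W V Y : Scheme.{u}} (σ : R ⟶ W) (τ : R ⟶ V) (f : W ⟶ Y) (g : V ⟶ Y)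
    (w : σ ≫ f = τ ≫ g)
    (h : ∀ (T : CommRingCat.{u}) (a : Spec T ⟶ W) (b : Spec T ⟶ V), a ≫ f = b ≫ g →
      ∃! r : Spec T ⟶ R, r ≫ σ = a ∧ r ≫ τ = b) : IsPullback σ τ f g := by
  refine isPullback_of_affine' σ τ f g w fun T _ a b e => ?_
  obtain ⟨r, ⟨h1, h2⟩, h3⟩ := h Γ(T, ⊤) (T.isoSpec.inv ≫ a) (T.isoSpec.inv ≫ b) (by rw [Category.assoc, e, Category.assoc])
  refine ⟨T.isoSpec.hom ≫ r, ⟨?_, ?_⟩, fun r' hr' => ?_⟩
  · rw [Category.assoc, h1, Iso.hom_inv_id_assoc]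
  · rw [Category.assoc, h2, Iso.hom_inv_id_assoc]
  · rw [← h3 (T.isoSpec.inv ≫ r') ⟨by rw [Category.assoc, hr'.1], by rw [Category.assoc, hr'.2]⟩, Iso.hom_inv_id_assoc]

end Groth.Agent.ResProp.EF.K622
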