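import Groth.Agent.ResProp.EF.K622.Quot
import Groth.Agent.ResProp.EF.K819.N4s

/-!
# G1, node N4s + N5: from the ring of frames `F : FrRing D x` to the quasi-affine quotient of `W' = ⋃ D(s_IJ)`
-/

set_option autoImplicit false

universe u

open CategoryTheory Limits AlgebraicGeometry
open Groth.Agent.Grpsch.AffGrpd Groth.Agent.ResProp.EF.K412 Groth.Agent.ResProp.EF.K819

namespace Groth.Agent.ResProp.EF.K622

section

variable {A B : Type u} [CommRing A] [CommRing B] {Lb : Type u} [CommRing Lb] [Algebra Lb A] {G : RGrpd A B}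
  {D : K412.Gen Lb G} {k : Type u} [Field k] {x : A →+* k}

/-- the finite set of the products of maximal minors -/
def setIJ (F : FrRing D x) : Set F.R := Set.range (sIJ F)

theorem finite_setIJ (F : FrRing D x) : (setIJ F).Finite := Set.finite_range _

theorem gen_iff (F : FrRing D x) {T : Type u} [CommRing T] (d : F.R →+* T) :
    K622.Gen (setIJ F) d ↔ Ideal.span (Set.range fun z => d (sIJ F z)) = ⊤ := by
  rw [K622.Gen, setIJ, ← Set.range_comp]
  rfl

/-- **N4s** -/
theorem kerPair (F : FrRing D x) (hN : N4 D F.r1 F.rm) (hN' : N4' D F.r1 F.rm) (hs : G.s.Flat) {R1 : Type u}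
    [CommRing R1] (a : Arr F R1) : KerPair (theta F.P) a.s a.t (setIJ F) where
  comm := a.theta_eq
  flat := a.flat hs
  inv T _ r h := by
    rw [gen_iff] at h ⊢
    exact (a.inv hN' hs r).1 h
  pts T _ d d' h h' e := by
    rw [gen_iff] at h h'
    exact a.pts hN hs d d' e h h'

/-- `F.R` is of finite type over `A` -/
theorem finiteType_a (F : FrRing D x) : F.P.a.FiniteType := by
  algebraize [F.P.a]
  let S : Set F.R := Set.range (fun z : Fin F.r1 × Fin D.n => F.P.M z.1 z.2) ∪
    Set.range (fun z : Fin F.rm × (Fin D.m → Fin D.n) => F.P.Mm z.1 z.2) ∪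
    Set.range (fun z : Fin F.rm × (Fin D.m → Fin F.r1) => F.P.mu z.1 z.2)
  have hS : S.Finite := ((Set.finite_range _).union (Set.finite_range _)).union (Set.finite_range _)
  refine ⟨⟨hS.toFinset, ?_⟩⟩
  rw [Set.Finite.coe_toFinset, eq_top_iff]
  have h1 : (⊤ : Subring F.R) ≤ (Algebra.adjoin A S).toSubring := by
    rw [← F.gen, Subring.closure_le]
    rintro z (((⟨a, rfl⟩ | ⟨z, rfl⟩) | ⟨z, rfl⟩) | ⟨z, rfl⟩)
    · exact (Algebra.adjoin A S).algebraMap_mem a
    · exact Algebra.subset_adjoin (Or.inl (Or.inl ⟨z, rfl⟩))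
    · exact Algebra.subset_adjoin (Or.inl (Or.inr ⟨z, rfl⟩))
    · exact Algebra.subset_adjoin (Or.inr ⟨z, rfl⟩)
  intro z _
  exact h1 (Subring.mem_top z)

/-- theta is of finite type -/
theorem finiteType_theta (F : FrRing D x) (hA : Algebra.FiniteType Lb A) : (theta F.P).FiniteType := by
  have h1 : (theta F.P).comp MvPolynomial.C = F.P.a.comp (algebraMap Lb A) := by
    ext l
    simp [theta]
  refine RingHom.FiniteType.of_comp_finiteType (f := MvPolynomial.C) ?_
  rw [h1]
  exact (finiteType_a F).comp (RingHom.finiteType_algebraMap.2 hA)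

/-- `σ : R' → W'` is the base change of `s` -/
theorem isPullback_s (F : FrRing D x) {R1 : Type u} [CommRing R1] (a : Arr F R1) :
    IsPullback (KerPair.sig a.s (setIJ F)) ((KerPair.Rop a.s (setIJ F)).ι ≫ Spec.map (CommRingCat.ofHom a.g))
      ((opn (setIJ F)).ι ≫ Spec.map (CommRingCat.ofHom F.P.a)) (Spec.map (CommRingCat.ofHom G.s)) :=
  ((isPullback_morphismRestrict (Spec.map (CommRingCat.ofHom a.s)) (opn (setIJ F))).flip.paste_horiz
    (isPullback_SpecMap_of_isPushout _ _ _ _ a.isPushout).flip).flip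

/-- `W' → Spec A` is of finite presentation if `A` is Noetherian -/
theorem lfp_W (F : FrRing D x) [IsNoetherianRing A] :
    LocallyOfFinitePresentation ((opn (setIJ F)).ι ≫ Spec.map (CommRingCat.ofHom F.P.a)) :=
  KerPair.lfp_thW (θ := F.P.a) (setIJ F) (finiteType_a F)

/-- **N4s + N5**: the quasi-affine quotient `Z` of `W' = ⋃ D(s_IJ) ⊆ Spec F.R` by the groupoid -/
theorem exists_quot_frRing [IsNoetherianRing Lb] (hA : Algebra.FiniteType Lb A) (F : FrRing D x) (hN : N4 D F.r1 F.rm)
    (hN' : N4' D F.r1 F.rm) (hs : G.s.Flat) {R1 : Type u} [CommRing R1] (a : Arr F R1) :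
    ∃ (Z : Scheme.{u}) (g : (opn (setIJ F)).toScheme ⟶ Z)
      (m : Z ⟶ Spec (.of (MvPolynomial (ThIdx D F.r1 F.rm) Lb))),
      IsPullback (KerPair.sig a.s (setIJ F)) (kerPair F hN hN' hs a).tau g g ∧
      g ≫ m = KerPair.thW (theta F.P) (setIJ F) ∧ Mono m ∧ LocallyOfFiniteType m ∧ QuasiCompact m ∧
      Z.IsQuasiAffine ∧ Surjective g ∧ Flat g ∧ LocallyOfFinitePresentation g ∧ QuasiCompact g ∧ IsAffineHom g :=
  (kerPair F hN hN' hs a).exists_quot (finite_setIJ F) (finiteType_theta F hA)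

end

end Groth.Agent.ResProp.EF.K622
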