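import Groth.Agent.ResProp.EF.K622.KerPair
import Groth.Agent.ResProp.EF.K128.Cover
import Mathlib.RingTheory.FinitePresentation
import Mathlib.AlgebraicGeometry.Morphisms.FinitePresentation

/-!
# The quasi-affine quotient of `W` from a statement on points (N4c + N5 of G1)
-/

set_option autoImplicit false

universe u

open CategoryTheory Limits AlgebraicGeometry

namespace Groth.Agent.ResProp.EF.K622

theorem zl_compl {D : Type u} [CommRing D] (F : Set D) :
    (PrimeSpectrum.zeroLocus F)ᶜ = ⋃ f ∈ F, (PrimeSpectrum.basicOpen f : Set (PrimeSpectrum D)) := by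
  ext x
  rw [mem_zl, Set.mem_iUnion₂]
  exact ⟨fun ⟨f, hf, hx⟩ => ⟨f, hf, hx⟩, fun ⟨f, hf, hx⟩ => ⟨f, hf, hx⟩⟩

theorem isCompact_zl {D : Type u} [CommRing D] (F : Set D) (hF : F.Finite) : IsCompact (PrimeSpectrum.zeroLocus F)ᶜ := by
  rw [zl_compl]
  exact hF.isCompact_biUnion fun f _ => PrimeSpectrum.isCompact_basicOpen f

theorem isCompact_opn {D : Type u} [CommRing D] (F : Set D) (hF : F.Finite) : IsCompact (opn F : Set (Spec (.of D))) :=
  isCompact_zl F hF

namespace KerPair

variable {B D D1 : Type u} [CommRing B] [CommRing D] [CommRing D1] {θ : B →+* D} {s t : D →+* D1} {F : Set D}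

theorem quasiCompact_thW (θ : B →+* D) (hF : F.Finite) : QuasiCompact (thW θ F) := by
  have : CompactSpace (opn F).toScheme := isCompact_iff_compactSpace.1 (isCompact_opn F hF)
  infer_instance

theorem lfp_thW (F : Set D) [IsNoetherianRing B] (hθ : θ.FiniteType) : LocallyOfFinitePresentation (thW θ F) := by
  have h1 : θ.FinitePresentation := by
    algebraize [θ]
    exact (Algebra.FinitePresentation.of_finiteType (R := B) (A := D)).1 hθ
  have h2 : LocallyOfFinitePresentation (Spec.map (CommRingCat.ofHom θ)) :=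
    (HasRingHomProperty.Spec_iff (P := @LocallyOfFinitePresentation)).2 h1
  infer_instance

theorem isAffineHom_sig (s : D →+* D1) (F : Set D) : IsAffineHom (sig s F) :=
  MorphismProperty.of_isPullback (P := @IsAffineHom) (isPullback_morphismRestrict (Spec.map (CommRingCat.ofHom s)) (opn F)).flip
    inferInstance

/-- **N4c + N5**: the quasi-affine quotient of `W = ⋃ D(f)` by the groupoid `R ⇉ W`. -/
theorem exists_quot (h : KerPair θ s t F) (hF : F.Finite) [IsNoetherianRing B] (hθ : θ.FiniteType) :
    ∃ (Z : Scheme.{u}) (g : (opn F).toScheme ⟶ Z) (m : Z ⟶ Spec (.of B)),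
      IsPullback (sig s F) h.tau g g ∧ g ≫ m = thW θ F ∧ Mono m ∧ LocallyOfFiniteType m ∧ QuasiCompact m ∧
      Z.IsQuasiAffine ∧ Surjective g ∧ Flat g ∧ LocallyOfFinitePresentation g ∧ QuasiCompact g ∧ IsAffineHom g := by
  have hqc := quasiCompact_thW (F := F) θ hF
  have hlfp := lfp_thW F hθ
  have hfl : Flat (pullback.fst (thW θ F) (thW θ F)) := by
    have h1 := h.flat_sig
    have h2 : pullback.fst (thW θ F) (thW θ F) = h.isPullback.isoPullback.inv ≫ sig s F :=
      h.isPullback.isoPullback_inv_fst.symm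
    rw [h2]
    infer_instance
  obtain ⟨Z, g, m, T, j, π, h1, h2, h3, h4, h5, h6, h7, h8, h9, h10, -⟩ := K128.QuotFr.exists_quot (thW θ F) hfl
  have hp : IsPullback (sig s F) h.tau g g := by
    have e : IsPullback (sig s F) h.tau g g := by
      refine IsPullback.of_iso h7 h.isPullback.isoPullback.symm (Iso.refl _) (Iso.refl _) (Iso.refl _) ?_ ?_ ?_ ?_
      · simp
      · simp
      · simp
      · simp
    exact e
  have h11 : IsAffineHom g := K128.Cover.isAffineHom_quot g _ _ hp (isAffineHom_sig s F)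
  exact ⟨Z, g, m, hp, h6, h5, h8, h9, h10, h1, h2, h3, h4, h11⟩

end KerPair

end Groth.Agent.ResProp.EF.K622
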